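import Mathlib
import Cfsg.Agent.H306.QA.CrFin
import Cfsg.Agent.H631.Fpf.DegE6
import Cfsg.Agent.H111.Fpf.SevenMin
import Cfsg.Agent.S1063
import Cfsg.Agent.S1064
import Cfsg.Agent.S1066
import Cfsg.Agent.S1070
import Cfsg.Agent.S1054

/-!
# S4979, layer (A): the rows `E₆(q)`, `E₇(q)`, `²E₆(q)`, `q > 2` (helper686, task 5672)
-/

set_option autoImplicit false
set_option linter.style.haveILetI false

open Cfsg

namespace Cfsg.Agent.H686.QA

open Cfsg.Lie Cfsg.Agent.H80.Fpf Cfsg.Agent.H152.QA Cfsg.Agent.H306.QA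

/-- numerical form of the criterion -/
theorem noSit_of_card {S : Type} [Group S] [Finite S] [IsSimpleGroup S] {s N b : ℕ} (_hs : 2 ≤ s)
    (hcard : Nat.card S ≤ s ^ N) (hB : MinDeg S (s ^ b)) (hnum : s * N * (s * N + 2) < 2 * s ^ b) : NoSit S := by
  refine noSit_of_cr (q0 := 2) hB (fun q hq _ => hq.two_le) ?_
  intro p hp hp2 hpS m hm h1
  have hp3 : 3 ≤ p := by
    have := hp.two_le
    omega
  have hX : ordCompl[p] (Nat.card S) ≤ s ^ N := (Nat.ordCompl_le _ _).trans hcard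
  have hs2 : s ≤ 2 ^ s := Nat.lt_two_pow_self.le
  have h2 : s ^ N ≤ 2 ^ (s * N) := by
    rw [pow_mul]
    exact Nat.pow_le_pow_left hs2 N
  have h3 : 2 ^ (2 * (m - 1)) ≤ 2 ^ (s * N) := by
    refine le_trans ?_ ((h1.trans hX).trans h2)
    rw [pow_mul]
    exact Nat.pow_le_pow_left (by omega) _
  have h4 : 2 * (m - 1) ≤ s * N := (Nat.pow_le_pow_iff_right (by norm_num)).1 h3
  have h5 : (ordCompl[p] (Nat.card S)) ^ m ≤ 2 ^ (s * N * m) := by
    rw [pow_mul]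
    exact Nat.pow_le_pow_left (hX.trans h2) m
  refine lt_of_le_of_lt h5 (Nat.pow_lt_pow_right (by norm_num) ?_)
  have h6 : s * N * (2 * m) ≤ s * N * (s * N + 2) := Nat.mul_le_mul_left _ (by omega)
  have h7 : 2 * (s * N * m) < 2 * s ^ b := by
    refine lt_of_le_of_lt ?_ (lt_of_le_of_lt h6 hnum)
    apply le_of_eq; ring
  omega

theorem num_aux {s N b c : ℕ} (hs : 2 ≤ s) (hb : b = c + 2) (hc : N * (N + 1) < 2 * s ^ c) :
    s * N * (s * N + 2) < 2 * s ^ b := by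
  have h1 : s * N + 2 ≤ s * (N + 1) := by rw [mul_add, mul_one]; omega
  calc s * N * (s * N + 2) ≤ s * N * (s * (N + 1)) := Nat.mul_le_mul_left _ h1
    _ = (N * (N + 1)) * s ^ 2 := by ring
    _ < (2 * s ^ c) * s ^ 2 := Nat.mul_lt_mul_of_pos_right hc (by positivity)
    _ = 2 * s ^ b := by rw [hb]; ring

theorem card_E6_le {F : Type} [Field F] [Fintype F] : Nat.card ↥(chevE6.group F) ≤ Fintype.card F ^ 78 := by
  have h := S1063.result (F := F) rfl
  set q := Fintype.card F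
  have h1 : 0 < Nat.gcd 3 (q - 1) := Nat.gcd_pos_of_pos_left _ (by norm_num)
  calc Nat.card ↥(chevE6.group F) ≤ Nat.gcd 3 (q - 1) * Nat.card ↥(chevE6.group F) := Nat.le_mul_of_pos_left _ h1
    _ = _ := h
    _ ≤ q ^ 36 * q ^ 2 * q ^ 5 * q ^ 6 * q ^ 8 * q ^ 9 * q ^ 12 := by gcongr <;> exact Nat.sub_le _ _
    _ = q ^ 78 := by ring

theorem card_E7_le {F : Type} [Field F] [Fintype F] : Nat.card ↥(chevE7.group F) ≤ Fintype.card F ^ 133 := by
  have h := S1064.result (F := F) rfl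
  set q := Fintype.card F
  have h1 : 0 < Nat.gcd 2 (q - 1) := Nat.gcd_pos_of_pos_left _ (by norm_num)
  calc Nat.card ↥(chevE7.group F) ≤ Nat.gcd 2 (q - 1) * Nat.card ↥(chevE7.group F) := Nat.le_mul_of_pos_left _ h1
    _ = _ := h
    _ ≤ q ^ 63 * q ^ 2 * q ^ 6 * q ^ 8 * q ^ 10 * q ^ 12 * q ^ 14 * q ^ 18 := by gcongr <;> exact Nat.sub_le _ _
    _ = q ^ 133 := by ring

theorem card_2E6_le {K : Type} [Field K] [Fintype K] {q : ℕ} (hq : IsPrimePow q) (hK : Fintype.card K = q ^ 2) :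
    Nat.card ↥(twistedE6 K q) ≤ q ^ 79 := by
  have h := S1066.result hq hK
  have hq2 := hq.two_le
  have h1 : 0 < Nat.gcd 3 (q + 1) := Nat.gcd_pos_of_pos_left _ (by norm_num)
  have h2 : (q ^ 2 - 1) * (q ^ 9 + 1) ≤ q ^ 11 := by
    have h3 : 1 ≤ q ^ 2 := Nat.one_le_pow _ _ (by omega)
    have h4 : q ^ 2 ≤ q ^ 9 := Nat.pow_le_pow_right (by omega) (by norm_num)
    zify [h3] at *
    nlinarith
  have h5 : q ^ 5 + 1 ≤ q ^ 6 := by
    have h3 : 1 ≤ q ^ 5 := Nat.one_le_pow _ _ (by omega)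
    calc q ^ 5 + 1 ≤ q ^ 5 * 2 := by omega
      _ ≤ q ^ 5 * q := Nat.mul_le_mul_left _ hq2
      _ = q ^ 6 := by ring
  calc Nat.card ↥(twistedE6 K q) ≤ Nat.gcd 3 (q + 1) * Nat.card ↥(twistedE6 K q) := Nat.le_mul_of_pos_left _ h1
    _ = _ := h
    _ = q ^ 36 * ((q ^ 2 - 1) * (q ^ 9 + 1)) * (q ^ 5 + 1) * (q ^ 6 - 1) * (q ^ 8 - 1) * (q ^ 12 - 1) := by ring
    _ ≤ q ^ 36 * q ^ 11 * q ^ 6 * q ^ 6 * q ^ 8 * q ^ 12 := by
      gcongr <;> exact Nat.sub_le _ _
    _ = q ^ 79 := by ring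

/-- `E₇(q)` -/
theorem row_e7 {F : Type} [Field F] [Fintype F] : NoSit ↥(chevE7.group F) := by
  haveI : IsSimpleGroup ↥(chevE7.group F) := (S1054.result _ (by simp)).1
  have h2 : 2 ≤ Fintype.card F := Fintype.one_lt_card
  have hB := Cfsg.Agent.H111.Fpf.SevenMin.minDeg F
  refine noSit_of_card h2 card_E7_le hB (num_aux (c := 14) h2 rfl ?_)
  have : 2 ^ 14 ≤ Fintype.card F ^ 14 := Nat.pow_le_pow_left h2 _
  omega

/-- `²E₆(q)`, `q > 2` -/
theorem row_2e6 {K : Type} [Field K] [Fintype K] (q : ℕ) (hq : IsPrimePow q) (hK : Fintype.card K = q ^ 2)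
    (h2 : q ≠ 2) : NoSit ↥(twistedE6 K q) := by
  haveI hs : IsSimpleGroup ↥(twistedE6 K q) := (S1070.result hq hK).1
  have h3 : 3 ≤ q := by
    have := hq.two_le
    omega
  refine noSit_of_card (by omega) (card_2E6_le hq hK) (Cfsg.Agent.H631.Fpf.minDeg_2E6 hq hK hs h2)
    (num_aux (c := 8) (by omega) rfl ?_)
  have : 3 ^ 8 ≤ q ^ 8 := Nat.pow_le_pow_left h3 _
  omega

/-- `E₆(q)`, `q > 2` -/
theorem row_e6_gen (F : Type) [Field F] [Fintype F] (h3 : 3 ≤ Fintype.card F) : NoSit ↥(chevE6.group F) := by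
  haveI : IsSimpleGroup ↥(chevE6.group F) := (S1054.result _ (by simp)).1
  refine noSit_of_card (by omega) card_E6_le Cfsg.Agent.H631.Fpf.minDeg_E6 (num_aux (c := 8) (by omega) rfl ?_)
  have : 3 ^ 8 ≤ Fintype.card F ^ 8 := Nat.pow_le_pow_left h3 _
  omega

/-- `E₆(2)` -/
theorem row_e6_two (F : Type) [Field F] [Fintype F] (h2 : Fintype.card F = 2) : NoSit ↥(chevE6.group F) := by
  haveI : IsSimpleGroup ↥(chevE6.group F) := (S1054.result _ (by simp)).1
  have hcard := S1063.result (F := F) h2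
  norm_num at hcard
  refine noSit_of_cr (q0 := 11) Cfsg.Agent.H631.Fpf.minDeg_E6 ?_ ?_
  · intro q hq hqS
    rw [hcard] at hqS
    by_contra hlt
    have h5 : q = 2 ∨ q = 3 ∨ q = 5 ∨ q = 7 := by
      have := hq.two_le
      have h11 : q < 11 := by omega
      interval_cases q <;> omega
    rcases h5 with rfl | rfl | rfl | rfl <;> revert hqS <;> norm_num
  · intro p hp hp2 hpS m hm h1
    rw [h2]
    have hX : ordCompl[p] (Nat.card ↥(chevE6.group F)) ≤ 2 ^ 78 := by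
      refine (Nat.ordCompl_le _ _).trans ?_
      have := card_E6_le (F := F)
      rwa [h2] at this
    have h3 : 2 ^ (2 * (m - 1)) ≤ 2 ^ 78 := by
      refine le_trans ?_ (h1.trans hX)
      rw [pow_mul]
      have := hp.two_le
      exact Nat.pow_le_pow_left (by omega) _
    have h4 : 2 * (m - 1) ≤ 78 := (Nat.pow_le_pow_iff_right (by norm_num)).1 h3
    have h5 : (ordCompl[p] (Nat.card ↥(chevE6.group F))) ^ m ≤ 2 ^ (78 * 40) := by
      refine (Nat.pow_le_pow_left hX m).trans ?_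
      rw [← pow_mul]
      exact Nat.pow_le_pow_right (by norm_num) (by omega)
    refine lt_of_le_of_lt h5 (lt_of_lt_of_le (Nat.pow_lt_pow_right (by norm_num) (by norm_num) :
      2 ^ (78 * 40) < 2 ^ (13 * 256)) ?_)
    have e : 2 ^ 10 = 4 * 256 := by norm_num
    rw [e, pow_mul, pow_mul]
    exact Nat.pow_le_pow_left (by norm_num) _

/-- `E₆(q)` -/
theorem row_e6 {F : Type} [Field F] [Fintype F] : NoSit ↥(chevE6.group F) := by
  have h2 : 2 ≤ Fintype.card F := Fintype.one_lt_card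
  rcases eq_or_lt_of_le h2 with h | h
  · exact row_e6_two F h.symm
  · exact row_e6_gen F h

end Cfsg.Agent.H686.QA
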