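import Mathlib
import Cfsg.Agent.H686.QA.RowE
import Cfsg.Agent.TwoESix.SheetMM
import Cfsg.Agent.H318.RepLarge
import Cfsg.Agent.H80.FpfB.E6Two

/-!
# The degrees of the covers of `²E₆(2)` are at least `1024`; S4979 layer (A): the row `²E₆(2)` (helper686, task 5672)
-/

set_option autoImplicit false
set_option linter.style.haveILetI false

open Cfsg

namespace Cfsg.Agent.H686.QA

open Cfsg.Lie Cfsg.Agent.H80.Fpf Cfsg.Agent.H152.QA Cfsg.Agent.H306.QA
open Cfsg.Agent.ChevalleyStructure Cfsg.Agent.ChevalleyStructure.TwE6Basic Cfsg.Agent.ChevalleyStructure.TwE6BN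
open Cfsg.Agent.H934.Heis Cfsg.Agent.H934.HeisData Cfsg.Agent.H934.HeisTw Cfsg.Agent.H934.HeisTwE6
open Cfsg.Agent.TwoESix.LeviA Cfsg.Agent.TwoESix.LeviB Cfsg.Agent.TwoESix.LeviC Cfsg.Agent.TwoESix.LeviD
open Cfsg.Agent.TwoESix.FlagH Cfsg.Agent.TwoESix.KeyExtra Cfsg.Agent.TwoESix.LongPairs Cfsg.Agent.TwoESix.LongCard

theorem x_mem {K : Type} [Field K] : ∀ i : Fin 20, ∀ t : K, (R K).x i t ∈ UR K Jn := by
  have h1 : ∀ i : Fin 20, 36 ≤ Cfsg.Agent.H934.HeisE6.tab.S i ∧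
      ¬ chevE6.InRootSub {j | j ∈ Jn} (Cfsg.Agent.H934.HeisE6.tab.S i) := by decide +kernel
  intro i t
  rw [R_x]
  exact x_mem_UR (r := ⟨_, S_lt i⟩) (h1 i).1 (h1 i).2 t

theorem z_mem' {K : Type} [Field K] (t : K) : (R K).z t ∈ UR K Jn := by
  rw [R_z]
  exact x_mem_UR (r := 71) (by decide) (by decide +kernel) t

theorem Qg_le {K : Type} [Field K] : (R K).toData.Qg ≤ UR K Jn := by
  rintro _ ⟨v, a, rfl⟩
  refine mul_mem ?_ (z_mem' a)
  show (R K).X v ∈ UR K Jn
  have h1 : ∀ l : List (Fin 20), (R K).P l v ∈ UR K Jn := by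
    intro l
    induction l with
    | nil => rw [Cfsg.Agent.H934.HeisRoot.RH.P_nil]; exact one_mem _
    | cons i l ih =>
      rw [Cfsg.Agent.H934.HeisRoot.RH.P_cons]
      exact mul_mem (x_mem i _) ih
  exact h1 _

/-- `|R| ≥ 2 ^ 21` -/
theorem card_RE_ge {K : Type} [Field K] [Fintype K] (hK : Fintype.card K = 4) : 2 ^ 21 ≤ Nat.card (RE K) := by
  classical
  have hq : IsPrimePow 2 := Nat.prime_two.isPrimePow
  have hK' : Fintype.card K = 2 ^ 2 := by rw [hK]; norm_num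
  obtain ⟨φ, hφ, hqq⟩ := exists_frob hq hK'
  have : Finite (GL chevE6.Idx K) := inferInstance
  obtain ⟨b, hb⟩ := exists_distinct (q := 2) (n := 2) one_lt_two one_lt_two hφ hK'
  obtain ⟨b0, hb0⟩ := exists_tr_one (by omega) hb (iterate_frob_n hφ hK')
  have T := of_trace (R K) (sg φ) (twistedE6 K 2) φ rhoI (fun i => (eps i : K)) 2 (sig_R φ) (sig_z φ)
    (fun g hg => twisted_le_fix φ hφ hqq hg) (z_mem hφ hqq) (sV_two fun t => by rw [hφ, hφ, hqq]) hb0
    (fun i t => lift_two (R K) (lift hφ hqq i t))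
  have hc2 : 2 ^ Fintype.card (Fin 20) ≤ Nat.card {v : Fin 20 → K // (sV φ rhoI fun i => (eps i : K)) v = v} := by
    have h3 := card_le_pow (M := Fin 20 → K) (by omega) hb (s := sV φ rhoI fun i => (eps i : K))
      (sV_smul φ rhoI fun i => (eps i : K)) (sV_two fun t => by rw [hφ, hφ, hqq])
    rw [Nat.card_fun, Nat.card_eq_fintype_card (α := K), Nat.card_eq_fintype_card (α := Fin 20), hK', ← pow_mul,
      mul_comm, pow_mul] at h3
    exact le_of_pow_le_pow_left₀ (by omega) (by omega) h3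
  have h1 := T.card_Q
  rw [Subgroup.card_top] at h1
  have h4 : 2 ≤ Nat.card {a : K // φ a = a} := by
    have : Nontrivial {a : K // φ a = a} := ⟨⟨⟨0, map_zero φ⟩, ⟨1, map_one φ⟩, fun h => zero_ne_one (congrArg Subtype.val h)⟩⟩
    exact Finite.one_lt_card
  rw [Fintype.card_fin] at hc2
  have h5 := Nat.mul_le_mul hc2 h4
  have h6 : Nat.card (TwData.Q0 (R K).toData (twistedE6 K 2)) ≤ Nat.card (RE K) := by
    refine Nat.card_le_card_of_injective
      (fun g => (⟨⟨g.1, g.2.1⟩, Subgroup.mem_subgroupOf.2 (Qg_le g.2.2)⟩ : RE K)) ?_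
    intro g h hgh
    have := congrArg (fun y : RE K => ((y : ↥(twistedE6 K 2)) : GL chevE6.Idx K)) hgh
    exact Subtype.ext this
  calc 2 ^ 21 = 2 ^ 20 * 2 := by norm_num
    _ ≤ _ := (h5.trans h1).trans h6

/-- degrees of covers from a large irreducible extraspecial subgroup -/
theorem minDeg_of_large {S : Type} [Group S] [Finite S] [IsSimpleGroup S] {Q : Subgroup S} {z : S}
    (hL : Cfsg.Agent.Co2Type.Quad.Large Q z) (hI : Cfsg.Agent.KFacts.LargeO2.Irr Q z)
    (hP : ⁅Subgroup.centralizer ({z} : Set S), Subgroup.centralizer ({z} : Set S)⁆ = Subgroup.centralizer ({z} : Set S))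
    (hne : ∃ x ∈ Q, x ≠ 1 ∧ x ≠ z) (h2 : IsPGroup 2 ↥Q) {B : ℕ} (hB : 2 * B ^ 2 ≤ Nat.card Q) : MinDeg S B := by
  intro G _ _ π hπ d ρ hρ hd
  haveI := hρ
  have hne' : ∃ g, ρ g ≠ 1 := by
    by_contra hcon
    push Not at hcon
    have h1 := degree_one_of_scalar ρ (fun g => ⟨1, by rw [hcon g, one_smul]; rfl⟩)
    omega
  have hker := ker_le_of_simple hπ ρ hne'
  let f : G →* GL (Fin d) ℂ :=
    (Units.map ((LinearMap.toMatrixAlgEquiv' : _ ≃ₐ[ℂ] Matrix (Fin d) (Fin d) ℂ) : _ →* _)).comp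
      (MonoidHom.toHomUnits ρ)
  have hf : ∀ g, f g = 1 → ρ g = 1 := by
    intro g hg
    have h1 : (LinearMap.toMatrixAlgEquiv' : _ ≃ₐ[ℂ] Matrix (Fin d) (Fin d) ℂ) (ρ g) = 1 := congrArg Units.val hg
    rw [← map_one (LinearMap.toMatrixAlgEquiv' : _ ≃ₐ[ℂ] Matrix (Fin d) (Fin d) ℂ)] at h1
    exact (LinearMap.toMatrixAlgEquiv' : _ ≃ₐ[ℂ] Matrix (Fin d) (Fin d) ℂ).injective h1
  have hfk : f.ker ≤ π.ker := fun g hg => hker (MonoidHom.mem_ker.2 (hf g hg))
  let π' : G ⧸ f.ker →* S := QuotientGroup.lift f.ker π fun g hg => hfk hg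
  have hπ' : ∀ g, π' (QuotientGroup.mk' f.ker g) = π g := fun g => rfl
  have hsurj : Function.Surjective π' := by
    intro s
    obtain ⟨g, rfl⟩ := hπ.surj s
    exact ⟨QuotientGroup.mk' f.ker g, rfl⟩
  have hk : π'.ker ≤ Subgroup.center (G ⧸ f.ker) := by
    intro x hx
    obtain ⟨g, rfl⟩ := QuotientGroup.mk'_surjective f.ker x
    have h1 : g ∈ Subgroup.center G := hπ.central (MonoidHom.mem_ker.2 (MonoidHom.mem_ker.1 hx))
    rw [Subgroup.mem_center_iff]
    intro y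
    obtain ⟨k, rfl⟩ := QuotientGroup.mk'_surjective f.ker y
    rw [← map_mul, ← map_mul, Subgroup.mem_center_iff.1 h1 k]
  have h3 := Cfsg.Agent.H318.RepLarge.card_le hL hI hP hne hsurj hk h2 (F := ℂ) two_ne_zero
    (QuotientGroup.kerLift f) (QuotientGroup.kerLift_injective f)
  rw [Fintype.card_fin] at h3
  have hz2 : Nat.card (Subgroup.zpowers z) ≤ 2 := by
    rw [Nat.card_zpowers]
    exact Nat.le_of_dvd (by norm_num) (orderOf_dvd_of_pow_eq_one (by rw [sq]; exact hL.z_sq))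
  have h4 := (Subgroup.relIndex_mul_relIndex ⊥ (Subgroup.zpowers z) Q bot_le (Subgroup.zpowers_le.2 hL.z_mem))
  rw [Subgroup.relIndex_bot_left, Subgroup.relIndex_bot_left] at h4
  have h5 : 2 * B ^ 2 ≤ 2 * d ^ 2 := by
    calc 2 * B ^ 2 ≤ Nat.card Q := hB
      _ = Nat.card (Subgroup.zpowers z) * (Subgroup.zpowers z).relIndex Q := h4.symm
      _ ≤ 2 * d ^ 2 := Nat.mul_le_mul hz2 h3
  have h6 : B ^ 2 ≤ d ^ 2 := by omega
  exact (Nat.pow_le_pow_iff_left two_ne_zero).1 h6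

/-- **The degrees of the covers of `²E₆(2)`.** -/
theorem minDeg_2E6_two {K : Type} [Field K] [Fintype K] (hK : Fintype.card K = 4) :
    MinDeg ↥(twistedE6 K 2) 1024 := by
  have hq : IsPrimePow 2 := Nat.prime_two.isPrimePow
  have hK' : Fintype.card K = 2 ^ 2 := by rw [hK]; norm_num
  haveI hs : IsSimpleGroup ↥(twistedE6 K 2) := (Cfsg.Agent.S1070.result hq hK').1
  have : Finite (GL chevE6.Idx K) := inferInstance
  obtain ⟨hchar, φ, F⟩ := exists_four K hK
  have hR2 : IsPGroup 2 ↥(RE K) := (S_two F).to_le fun q hq => UR_le_U hq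
  refine minDeg_of_large (Cfsg.Agent.TwoESix.SheetA.large F) (Cfsg.Agent.TwoESix.SheetA.irr F)
    (Cfsg.Agent.TwoESix.SheetA.perf F) ?_ hR2 ?_
  · by_contra hcon
    push Not at hcon
    have h1 := card_RE_ge hK
    have h2 : RE K ≤ Subgroup.zpowers (r0 F) := by
      intro x hx
      by_cases h : x = 1
      · rw [h]; exact one_mem _
      · rw [hcon x hx h]; exact Subgroup.mem_zpowers _
    have h3 := Subgroup.card_le_of_le h2
    rw [Nat.card_zpowers] at h3
    have h4 : orderOf (r0 F) ≤ 2 := Nat.le_of_dvd (by norm_num)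
      (orderOf_dvd_of_pow_eq_one (by rw [sq]; exact (Cfsg.Agent.TwoESix.SheetA.large F).z_sq))
    omega
  · have h1 := card_RE_ge hK
    calc 2 * 1024 ^ 2 = 2 ^ 21 := by norm_num
      _ ≤ _ := h1

/-- `²E₆(2)` -/
theorem row_2e62 {K : Type} [Field K] [Fintype K] (hK : Fintype.card K = 2 ^ 2) : NoSit ↥(twistedE6 K 2) := by
  have hq : IsPrimePow 2 := Nat.prime_two.isPrimePow
  haveI hs : IsSimpleGroup ↥(twistedE6 K 2) := (Cfsg.Agent.S1070.result hq hK).1
  have hcard : Nat.card ↥(twistedE6 K 2) = 76532479683774853939200 := by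
    have h := S1066.result hq hK
    have h3 : Nat.gcd 3 (2 + 1) = 3 := by decide
    rw [h3] at h
    have h4 : 3 * Nat.card ↥(twistedE6 K 2) = 3 * 76532479683774853939200 := by
      rw [h]; norm_num
    exact Nat.eq_of_mul_eq_mul_left (by norm_num) h4
  refine noSit_of_cr (q0 := 11) (minDeg_2E6_two (by rw [hK]; norm_num)) ?_ ?_
  · intro q hq hqS
    rw [hcard] at hqS
    by_contra hlt
    have h5 : q = 2 ∨ q = 3 ∨ q = 5 ∨ q = 7 := by
      have := hq.two_le
      have h11 : q < 11 := by omega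
      interval_cases q <;> omega
    rcases h5 with rfl | rfl | rfl | rfl <;> revert hqS <;> norm_num
  · intro p hp hp2 hpS m hm h1
    have hX : ordCompl[p] (Nat.card ↥(twistedE6 K 2)) ≤ 2 ^ 79 := (Nat.ordCompl_le _ _).trans (card_2E6_le hq hK)
    have h3 : 2 ^ (2 * (m - 1)) ≤ 2 ^ 79 := by
      refine le_trans ?_ (h1.trans hX)
      rw [pow_mul]
      have := hp.two_le
      exact Nat.pow_le_pow_left (by omega) _
    have h4 : 2 * (m - 1) ≤ 79 := (Nat.pow_le_pow_iff_right (by norm_num)).1 h3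
    have h5 : (ordCompl[p] (Nat.card ↥(twistedE6 K 2))) ^ m ≤ 2 ^ (79 * 40) := by
      refine (Nat.pow_le_pow_left hX m).trans ?_
      rw [← pow_mul]
      exact Nat.pow_le_pow_right (by norm_num) (by omega)
    refine lt_of_le_of_lt h5 (lt_of_lt_of_le (Nat.pow_lt_pow_right (by norm_num) (by norm_num) :
      2 ^ (79 * 40) < 2 ^ (13 * 256)) ?_)
    have e : 1024 = 4 * 256 := by norm_num
    rw [e, pow_mul, pow_mul]
    exact Nat.pow_le_pow_left (by norm_num) _

end Cfsg.Agent.H686.QA
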